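import Mathlib
import Cfsg.Agent.H613.KS.Defs

/-!
# S4577: the action of a 5-element on `2^4` (helper215)

* `D1`, `D2`, `D3` : elementary criteria for the configuration `Cfg` (16-versions of `H323/KKL/Crit.lean`);
* `D4` : the orbits of `y` on `D`.
-/

set_option autoImplicit false

open Cfsg Cfsg.Agent.H613.KS

universe u

namespace Cfsg.Agent.H215.KS

section basic

variable {S : Type u} [Group S] {D : Subgroup S} {x : S}

theorem E16.comm (h : E16 D) : ∀ a ∈ D, ∀ b ∈ D, a * b = b * a := by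
  intro a ha b hb
  have h1 := h.inv a ha
  have h2 := h.inv b hb
  have h3 := h.inv (a * b) (D.mul_mem ha hb)
  have e1 : a⁻¹ = a := inv_eq_of_mul_eq_one_left h1
  have e2 : b⁻¹ = b := inv_eq_of_mul_eq_one_left h2
  have e3 : (a * b)⁻¹ = a * b := inv_eq_of_mul_eq_one_left h3
  rw [mul_inv_rev, e1, e2] at e3
  exact e3.symm

theorem E16.isPGroup (h : E16 D) : IsPGroup 2 D := IsPGroup.of_card (n := 4) (by rw [h.card]; norm_num)

/-- elements of odd order in a group of exponent two are trivial -/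
theorem eq_one_of_odd {g : S} (h2 : g * g = 1) (ho : Odd (orderOf g)) : g = 1 := by
  have h1 : orderOf g ∣ 2 := orderOf_dvd_of_pow_eq_one (by rw [pow_two, h2])
  rcases (Nat.dvd_prime Nat.prime_two).1 h1 with h | h
  · exact orderOf_eq_one_iff.1 h
  · rw [h] at ho
    exact absurd ho (by decide)

/-- the centralizer of the subgroup generated by `z` -/
theorem centralizer_zpowers (z : S) :
    Subgroup.centralizer ((Subgroup.zpowers z : Subgroup S) : Set S) = Subgroup.centralizer ({z} : Set S) := by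
  ext g
  rw [Subgroup.mem_centralizer_iff, Subgroup.mem_centralizer_singleton_iff]
  constructor
  · intro h
    exact (h z (Subgroup.mem_zpowers z)).symm
  · rintro h w ⟨k, rfl⟩
    have : Commute z g := h.symm
    exact (this.zpow_left k).eq

/-- `rad` for a single element -/
theorem rad_single (h : Cfg D x) {z : S} (hz : z ∈ D)
    {N : Subgroup S} (hN2 : IsPGroup 2 N) (hNz : N ≤ Subgroup.centralizer {z})
    (hNn : ∀ c ∈ Subgroup.centralizer ({z} : Set S), ∀ n ∈ N, c * n * c⁻¹ ∈ N) : N ≤ D := by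
  refine h.rad (Subgroup.zpowers z) (by rwa [Subgroup.zpowers_le]) N hN2 ?_ ?_
  · rw [centralizer_zpowers]; exact hNz
  · rw [centralizer_zpowers]; exact hNn

/-- a 2-subgroup of `C(x)` has order at most 16 -/
theorem card_le (h : Cfg D x) {Q : Subgroup S} (hQ : IsPGroup 2 Q) (hQx : ∀ q ∈ Q, q * x = x * q) :
    Nat.card Q ≤ 16 := by
  obtain ⟨c, -, hc⟩ := h.syl Q hQ hQx
  have : Finite D := Nat.finite_of_card_ne_zero (by rw [h.e16.card]; norm_num)
  rw [← h.e16.card]
  refine Nat.card_le_card_of_injective (fun q : Q => (⟨c * q * c⁻¹, hc q q.2⟩ : D)) ?_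
  intro q r hqr
  have h2 : c * (q : S) * c⁻¹ = c * (r : S) * c⁻¹ := congrArg Subtype.val hqr
  exact Subtype.ext (mul_left_cancel (mul_right_cancel h2))

end basic

/-- D1: characteristic 2 -/
theorem D1 {S : Type u} [Group S] [Finite S] {D : Subgroup S} {x : S} (h : Cfg D x) {z : S} (hz : z ∈ D)
    {N : Subgroup S} (hN2 : IsPGroup 2 N) (hNz : N ≤ Subgroup.centralizer {z})
    (hNn : ∀ c ∈ Subgroup.centralizer ({z} : Set S), ∀ n ∈ N, c * n * c⁻¹ ∈ N)
    (hC : ∀ c ∈ Subgroup.centralizer ({z} : Set S), (∀ n ∈ N, n * c = c * n) → c ∈ N) :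
    x = 1 ∧ (Nat.card S).factorization 2 = 4 ∧ Subgroup.centralizer (D : Set S) = D := by
  have hND : N ≤ D := rad_single h hz hN2 hNz hNn
  have hcomm := E16.comm h.e16
  have hcen : Subgroup.centralizer (D : Set S) ≤ D := by
    intro g hg
    rw [Subgroup.mem_centralizer_iff] at hg
    refine hND (hC g (Subgroup.mem_centralizer_singleton_iff.2 (hg z hz).symm) ?_)
    intro n hn
    exact hg n (hND hn)
  have hx : x = 1 := by
    have h1 : x ∈ D := hcen (Subgroup.mem_centralizer_iff.2 h.comm)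
    exact eq_one_of_odd (h.e16.inv x h1) h.odd
  refine ⟨hx, ?_, le_antisymm hcen ?_⟩
  · have : Fact (Nat.Prime 2) := ⟨Nat.prime_two⟩
    obtain ⟨P⟩ : Nonempty (Sylow 2 S) := inferInstance
    have h1 : Nat.card (P : Subgroup S) ≤ 16 :=
      card_le h P.isPGroup' (by intro q _; rw [hx, mul_one, one_mul])
    have h3 : Nat.card (P : Subgroup S) = 2 ^ (Nat.card S).factorization 2 := Sylow.card_eq_multiplicity P
    obtain ⟨P', hP'⟩ := (E16.isPGroup h.e16).exists_le_sylow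
    have h4 : Nat.card D ∣ Nat.card (P' : Subgroup S) := Subgroup.card_dvd_of_le hP'
    rw [Sylow.card_eq_multiplicity P', h.e16.card] at h4
    rw [h3] at h1
    have h5 : (2 : ℕ) ^ (Nat.card S).factorization 2 ≤ 2 ^ 4 := by simpa using h1
    have h6 : (2 : ℕ) ^ 4 ∣ 2 ^ (Nat.card S).factorization 2 := by simpa using h4
    have h7 := (Nat.pow_le_pow_iff_right (by norm_num : 1 < 2)).1 h5
    have h8 := (Nat.pow_dvd_pow_iff_le_right (by norm_num : 1 < 2)).1 h6
    omega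
  · intro d hd
    rw [Subgroup.mem_centralizer_iff]
    intro e he
    exact hcomm e he d hd

/-- D2: cheap kills -/
theorem D2 {S : Type u} [Group S] [Finite S] {D : Subgroup S} {x : S} (h : Cfg D x) {z : S} (hz : z ∈ D)
    {N : Subgroup S} (hN2 : IsPGroup 2 N) (hNz : N ≤ Subgroup.centralizer {z})
    (hNn : ∀ c ∈ Subgroup.centralizer ({z} : Set S), ∀ n ∈ N, c * n * c⁻¹ ∈ N) :
    Nat.card N ≤ 16 ∧ ∀ n ∈ N, n * n = 1 := by
  have hND : N ≤ D := rad_single h hz hN2 hNz hNn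
  refine ⟨?_, fun n hn => h.e16.inv n (hND hn)⟩
  rw [← h.e16.card]
  exact Subgroup.card_le_of_le hND

/-- D3: 2-subgroups of `C_S(x)` -/
theorem D3 {S : Type u} [Group S] [Finite S] {D : Subgroup S} {x : S} (h : Cfg D x) :
    (∀ Q : Subgroup S, IsPGroup 2 Q → (∀ q ∈ Q, q * x = x * q) → Nat.card Q ≤ 16 ∧ ∀ q ∈ Q, q * q = 1) ∧
    (∀ q : S, (∃ k : ℕ, orderOf q = 2 ^ k) → q * x = x * q → (∀ d ∈ D, q * d * q⁻¹ ∈ D) → q ∈ D) ∧
    (Nat.card ↥(Subgroup.centralizer ({x} : Set S))).factorization 2 = 4 := by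
  have : Fact (Nat.Prime 2) := ⟨Nat.prime_two⟩
  refine ⟨fun Q hQ hQx => ⟨card_le h hQ hQx, ?_⟩, ?_, ?_⟩
  · obtain ⟨c, -, hc⟩ := h.syl Q hQ hQx
    intro q hq
    have h1 := h.e16.inv _ (hc q hq)
    have h2 : c * (q * q) * c⁻¹ = 1 := by
      rw [← h1]; group
    have h3 : c * (q * q) = c := by
      have := congrArg (· * c) h2
      simpa using this
    simpa using h3
  · rintro q ⟨k, hk⟩ hqx hqD
    have hZ : IsPGroup 2 (Subgroup.zpowers q) := IsPGroup.of_card (n := k) (by rw [Nat.card_zpowers, hk])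
    have hnorm : Subgroup.zpowers q ≤ Subgroup.normalizer (D : Set S) := by
      rw [Subgroup.zpowers_le, Subgroup.mem_normalizer_iff]
      intro d
      constructor
      · exact hqD d
      · intro hd
        let f : D → D := fun e => ⟨q * e * q⁻¹, hqD e e.2⟩
        have hf : Function.Injective f := by
          intro a b hab
          have h2 : q * (a : S) * q⁻¹ = q * (b : S) * q⁻¹ := congrArg Subtype.val hab
          exact Subtype.ext (mul_left_cancel (mul_right_cancel h2))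
        obtain ⟨e, he⟩ := (Finite.injective_iff_surjective.1 hf) ⟨_, hd⟩
        have h2 : q * (e : S) * q⁻¹ = q * d * q⁻¹ := congrArg Subtype.val he
        have h3 : (e : S) = d := mul_left_cancel (mul_right_cancel h2)
        rw [← h3]
        exact e.2
    have hP : IsPGroup 2 ((Subgroup.zpowers q ⊔ D : Subgroup S)) :=
      hZ.to_sup_of_normal_right' (E16.isPGroup h.e16) hnorm
    have hPx : ∀ r ∈ (Subgroup.zpowers q ⊔ D : Subgroup S), r * x = x * r := by
      intro r hr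
      have h1 : (Subgroup.zpowers q ⊔ D : Subgroup S) ≤ Subgroup.centralizer ({x} : Set S) := by
        refine sup_le ?_ fun d hd => Subgroup.mem_centralizer_singleton_iff.2 (h.comm d hd)
        rw [Subgroup.zpowers_le]
        exact Subgroup.mem_centralizer_singleton_iff.2 hqx
      exact Subgroup.mem_centralizer_singleton_iff.1 (h1 hr)
    have h1 := card_le h hP hPx
    have h2 : D = (Subgroup.zpowers q ⊔ D : Subgroup S) :=
      Subgroup.eq_of_le_of_card_ge le_sup_right (by rw [h.e16.card]; exact h1)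
    rw [h2]
    exact (le_sup_left : Subgroup.zpowers q ≤ _) (Subgroup.mem_zpowers q)
  · set C := Subgroup.centralizer ({x} : Set S) with hC
    obtain ⟨P⟩ : Nonempty (Sylow 2 C) := inferInstance
    have h3 : Nat.card (P : Subgroup C) = 2 ^ (Nat.card C).factorization 2 := Sylow.card_eq_multiplicity P
    have hP2 : IsPGroup 2 ((P : Subgroup C).map C.subtype) := P.isPGroup'.map _
    have h1 := card_le h hP2 (by
      rintro _ ⟨r, -, rfl⟩
      exact Subgroup.mem_centralizer_singleton_iff.1 r.2)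
    rw [Nat.card_congr ((P : Subgroup C).equivMapOfInjective C.subtype C.subtype_injective).toEquiv.symm, h3] at h1
    have hDC : D ≤ C := fun d hd => Subgroup.mem_centralizer_singleton_iff.2 (h.comm d hd)
    have h6 : Nat.card D ∣ Nat.card C := Subgroup.card_dvd_of_le hDC
    rw [h.e16.card] at h6
    have h7 : (2 : ℕ) ^ 4 ∣ Nat.card C := by simpa using h6
    have h8 := (Nat.prime_two.pow_dvd_iff_le_factorization (Nat.card_pos.ne')).1 h7
    have h5 : (2 : ℕ) ^ (Nat.card C).factorization 2 ≤ 2 ^ 4 := by simpa using h1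
    have h9 := (Nat.pow_le_pow_iff_right (by norm_num : 1 < 2)).1 h5
    omega

section Y

variable {S : Type u} [Group S] {D : Subgroup S} {y : S}

/-- conjugation by `y` on `D` -/
def cy (hy : Five D y) : Equiv.Perm D where
  toFun d := ⟨y * d * y⁻¹, (hy.norm d).2 d.2⟩
  invFun d := ⟨y⁻¹ * d * y, by
    have h1 := (hy.norm (y⁻¹ * d * y)).1 (by
      have : y * (y⁻¹ * (d : S) * y) * y⁻¹ = d := by group
      rw [this]
      exact d.2)
    exact h1⟩
  left_inv d := Subtype.ext (by show y⁻¹ * (y * d * y⁻¹) * y = d; group)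
  right_inv d := Subtype.ext (by show y * (y⁻¹ * d * y) * y⁻¹ = d; group)

theorem cy_pow (hy : Five D y) (n : ℕ) (d : D) : (((cy hy) ^ n) d : S) = y ^ n * d * (y ^ n)⁻¹ := by
  induction n generalizing d with
  | zero => simp
  | succ n ih =>
    rw [pow_succ, Equiv.Perm.mul_apply, ih]
    show y ^ n * (y * d * y⁻¹) * (y ^ n)⁻¹ = _
    rw [pow_succ]
    group

theorem cy_five (h : E16 D) (hy : Five D y) : (cy hy) ^ 5 = 1 := by
  classical
  have : Finite D := Nat.finite_of_card_ne_zero (by rw [h.card]; norm_num)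
  have : Fintype D := Fintype.ofFinite D
  obtain ⟨m, hm⟩ := hy.five
  have h1 : (cy hy) ^ (5 ^ m) = 1 := by
    ext d
    rw [cy_pow, ← hm, pow_orderOf_eq_one]
    simp
  have h2 : orderOf (cy hy) ∣ 5 := by
    rw [← Equiv.Perm.lcm_cycleType]
    refine Multiset.lcm_dvd.2 fun n hn => ?_
    have h3 : n ∣ 5 ^ m := (Equiv.Perm.dvd_of_mem_cycleType hn).trans (orderOf_dvd_of_pow_eq_one h1)
    obtain ⟨j, -, rfl⟩ := (Nat.dvd_prime_pow Nat.prime_five).1 h3
    have h4 : 5 ^ j ≤ Fintype.card D := by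
      refine (Multiset.le_sum_of_mem hn).trans ?_
      rw [Equiv.Perm.sum_cycleType]
      exact Finset.card_le_univ _
    rw [← Nat.card_eq_fintype_card, h.card] at h4
    have h5 : j < 2 := by
      by_contra h6
      have : 5 ^ 2 ≤ 5 ^ j := Nat.pow_le_pow_right (by norm_num) (by omega)
      omega
    interval_cases j
    · exact one_dvd _
    · exact dvd_rfl
  exact orderOf_dvd_iff_pow_eq_one.1 h2

theorem conj_mem (hy : Five D y) (n : ℕ) {d : S} (hd : d ∈ D) : y ^ n * d * (y ^ n)⁻¹ ∈ D := by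
  have h1 := cy_pow hy n ⟨d, hd⟩
  have h2 := (((cy hy) ^ n) ⟨d, hd⟩).2
  rwa [h1] at h2

theorem conj_five (h : E16 D) (hy : Five D y) {d : S} (hd : d ∈ D) : y ^ 5 * d * (y ^ 5)⁻¹ = d := by
  have h1 := cy_pow hy 5 ⟨d, hd⟩
  rw [cy_five h hy] at h1
  exact h1.symm

/-- `y` has no fixed points on `D` -/
theorem ne_comm (h : E16 D) (hy : Five D y) {d : S} (hd : d ∈ D) (hc : y * d = d * y) : d = 1 := by
  -- the fixed points
  let A : Subgroup S := D ⊓ Subgroup.centralizer {y}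
  have hmem : ∀ a : S, a ∈ A ↔ a ∈ D ∧ a * y = y * a := fun a => by
    rw [Subgroup.mem_inf, Subgroup.mem_centralizer_singleton_iff]
  have hconj : ∀ a : S, a * y = y * a → y * a * y⁻¹ = a := by
    intro a ha
    rw [← ha, mul_inv_cancel_right]
  rcases hy.irr A inf_le_left (fun a ha => by rw [hconj a ((hmem a).1 ha).2]; exact ha) with h1 | h1
  · have h2 : d ∈ A := (hmem d).2 ⟨hd, hc.symm⟩
    rw [h1] at h2
    exact Subgroup.mem_bot.1 h2
  · by_contra hd1
    have h3 : Subgroup.zpowers d ≤ D := by rwa [Subgroup.zpowers_le]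
    have h4 : Nat.card (Subgroup.zpowers d) = 2 := by
      rw [Nat.card_zpowers]
      exact orderOf_eq_prime (by rw [pow_two, h.inv d hd]) hd1
    rcases hy.irr (Subgroup.zpowers d) h3 (fun a ha => by
      have h5 : a ∈ A := by rw [h1]; exact h3 ha
      rw [hconj a ((hmem a).1 h5).2]
      exact ha) with h5 | h5
    · rw [h5, Subgroup.card_bot] at h4
      omega
    · rw [h5, h.card] at h4
      omega

theorem conj_succ (y d : S) (n : ℕ) : y * (y ^ n * d * (y ^ n)⁻¹) * y⁻¹ = y ^ (n + 1) * d * (y ^ (n + 1))⁻¹ := by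
  rw [pow_succ']
  group

theorem prod_five (h : E16 D) (hy : Five D y) {d : S} (hd : d ∈ D) :
    d * (y * d * y⁻¹) * (y ^ 2 * d * (y ^ 2)⁻¹) * (y ^ 3 * d * (y ^ 3)⁻¹) * (y ^ 4 * d * (y ^ 4)⁻¹) = 1 := by
  have hc := E16.comm h
  have e0 : y ^ 0 * d * (y ^ 0)⁻¹ = d := by simp
  have e1 : y ^ 1 * d * (y ^ 1)⁻¹ = y * d * y⁻¹ := by simp
  have m1 : y * d * y⁻¹ ∈ D := (hy.norm d).2 hd
  have m2 := conj_mem hy 2 hd
  have m3 := conj_mem hy 3 hd
  have m4 := conj_mem hy 4 hd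
  have hmem : d * (y * d * y⁻¹) * (y ^ 2 * d * (y ^ 2)⁻¹) * (y ^ 3 * d * (y ^ 3)⁻¹) * (y ^ 4 * d * (y ^ 4)⁻¹) ∈ D :=
    D.mul_mem (D.mul_mem (D.mul_mem (D.mul_mem hd m1) m2) m3) m4
  refine ne_comm h hy hmem ?_
  have h1 : y * (d * (y * d * y⁻¹) * (y ^ 2 * d * (y ^ 2)⁻¹) * (y ^ 3 * d * (y ^ 3)⁻¹) * (y ^ 4 * d * (y ^ 4)⁻¹)) * y⁻¹ =
      (y * d * y⁻¹) * (y * (y * d * y⁻¹) * y⁻¹) * (y * (y ^ 2 * d * (y ^ 2)⁻¹) * y⁻¹) *
        (y * (y ^ 3 * d * (y ^ 3)⁻¹) * y⁻¹) * (y * (y ^ 4 * d * (y ^ 4)⁻¹) * y⁻¹) := by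
    simp only [mul_assoc, inv_mul_cancel_left]
  have h2 : y * (y * d * y⁻¹) * y⁻¹ = y ^ 2 * d * (y ^ 2)⁻¹ := by
    have := conj_succ y d 1
    rwa [e1] at this
  rw [h2, conj_succ, conj_succ, conj_succ] at h1
  have h3 : y ^ (4 + 1) * d * (y ^ (4 + 1))⁻¹ = d := conj_five h hy hd
  rw [h3] at h1
  have h4 : y * d * y⁻¹ * (y ^ 2 * d * (y ^ 2)⁻¹) * (y ^ (2 + 1) * d * (y ^ (2 + 1))⁻¹) *
      (y ^ (3 + 1) * d * (y ^ (3 + 1))⁻¹) * d =
      d * (y * d * y⁻¹) * (y ^ 2 * d * (y ^ 2)⁻¹) * (y ^ 3 * d * (y ^ 3)⁻¹) * (y ^ 4 * d * (y ^ 4)⁻¹) := by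
    rw [hc _ (D.mul_mem (D.mul_mem (D.mul_mem m1 m2) m3) m4) d hd]
    simp only [mul_assoc]
  rw [h4] at h1
  have h5 := congrArg (· * y) h1
  simpa [mul_assoc] using h5

/-- D4: the orbits of `y` -/
theorem D4 {S : Type u} [Group S] [Finite S] {D : Subgroup S} (h : E16 D) {y : S} (hy : Five D y) :
    (∀ d ∈ D, y ^ 5 * d = d * y ^ 5) ∧ (∀ d ∈ D, d ≠ 1 → y * d ≠ d * y) ∧
    (∀ d ∈ D, d * (y * d * y⁻¹) * (y ^ 2 * d * (y ^ 2)⁻¹) * (y ^ 3 * d * (y ^ 3)⁻¹) * (y ^ 4 * d * (y ^ 4)⁻¹) = 1) ∧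
    (∀ d ∈ D, d ≠ 1 → Subgroup.closure {e : S | ∃ i : ℕ, e = y ^ i * d * (y ^ i)⁻¹} = D) := by
  refine ⟨fun d hd => ?_, fun d hd hd1 hc => hd1 (ne_comm h hy hd hc), fun d hd => prod_five h hy hd, ?_⟩
  · have h1 := conj_five h hy hd
    calc y ^ 5 * d = y ^ 5 * d * (y ^ 5)⁻¹ * y ^ 5 := by group
      _ = d * y ^ 5 := by rw [h1]
  · intro d hd hd1
    have hle : Subgroup.closure {e : S | ∃ i : ℕ, e = y ^ i * d * (y ^ i)⁻¹} ≤ D := by
      rw [Subgroup.closure_le]
      rintro e ⟨i, rfl⟩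
      exact conj_mem hy i hd
    have hmem : d ∈ Subgroup.closure {e : S | ∃ i : ℕ, e = y ^ i * d * (y ^ i)⁻¹} :=
      Subgroup.subset_closure ⟨0, by simp⟩
    have hinv : ∀ a ∈ Subgroup.closure {e : S | ∃ i : ℕ, e = y ^ i * d * (y ^ i)⁻¹},
        y * a * y⁻¹ ∈ Subgroup.closure {e : S | ∃ i : ℕ, e = y ^ i * d * (y ^ i)⁻¹} := by
      intro a ha
      induction ha using Subgroup.closure_induction with
      | mem e he =>
        obtain ⟨i, rfl⟩ := he
        exact Subgroup.subset_closure ⟨i + 1, conj_succ y d i⟩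
      | one => simpa using Subgroup.one_mem _
      | mul a b _ _ ha hb =>
        have h3 : y * (a * b) * y⁻¹ = (y * a * y⁻¹) * (y * b * y⁻¹) := by group
        rw [h3]
        exact Subgroup.mul_mem _ ha hb
      | inv a _ ha =>
        have h3 : y * a⁻¹ * y⁻¹ = (y * a * y⁻¹)⁻¹ := by group
        rw [h3]
        exact Subgroup.inv_mem _ ha
    rcases hy.irr _ hle hinv with h1 | h1
    · rw [h1] at hmem
      exact absurd (Subgroup.mem_bot.1 hmem) hd1
    · exact h1

end Y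

end Cfsg.Agent.H215.KS
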