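import Mathlib
import Cfsg.Agent.H215.KS.Dfour

/-!
# S4577: the trace formula (helper215)

`TR` : `ρ` a representation of `2^4:5` over a field of characteristic not 2; the dimensions of the `(−1)`-eigenspaces
of the elements of `D#` are `2(A + a_i)` with `A = a_1 + a_2 + a_3`, where the `a_i` are the multiplicities of the
non-trivial characters of `D`.
-/

set_option autoImplicit false

open Cfsg Cfsg.Agent.H613.KS

universe u

namespace Cfsg.Agent.H215.KS

/-! ## coordinates -/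

/-- coordinates of `F_2^4` -/
abbrev B4 : Type := Bool × Bool × Bool × Bool

/-- the zero vector -/
abbrev z4 : B4 := (false, false, false, false)

/-- addition -/
def badd (b c : B4) : B4 := (xor b.1 c.1, xor b.2.1 c.2.1, xor b.2.2.1 c.2.2.1, xor b.2.2.2 c.2.2.2)

/-- the action of the element of order 5 -/
def sig (b : B4) : B4 := (b.2.2.2, xor b.1 b.2.2.2, xor b.2.1 b.2.2.2, xor b.2.2.1 b.2.2.2)

/-- the dual action -/
def tau (c : B4) : B4 := (xor c.1 (xor c.2.1 (xor c.2.2.1 c.2.2.2)), c.1, c.2.1, c.2.2.1)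

/-- the pairing -/
def bpair (c b : B4) : Bool :=
  xor (c.1 && b.1) (xor (c.2.1 && b.2.1) (xor (c.2.2.1 && b.2.2.1) (c.2.2.2 && b.2.2.2)))

/-- representatives of the orbits of `tau` -/
def rep4 : Fin 3 → B4 := ![(false, false, false, true), (false, false, true, false), (false, true, true, true)]

/-- the orbit of a non-zero vector under `tau` -/
def fcl (c : B4) : Fin 3 :=
  if c = (false, false, false, true) ∨ c = (true, false, false, false) ∨ c = (true, true, false, false) ∨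
    c = (false, true, true, false) ∨ c = (false, false, true, true) then 0
  else if c = (false, false, true, false) ∨ c = (true, false, false, true) ∨ c = (false, true, false, false) ∨
    c = (true, false, true, false) ∨ c = (false, true, false, true) then 1
  else 2

/-- the orbit of a non-zero vector under `sig` -/
def gcl (c : B4) : Fin 3 :=
  if c = (false, false, false, true) ∨ c = (true, true, true, true) ∨ c = (true, false, false, false) ∨
    c = (false, true, false, false) ∨ c = (false, false, true, false) then 2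
  else if c = (false, false, true, true) ∨ c = (true, true, true, false) ∨ c = (false, true, true, true) ∨
    c = (true, true, false, false) ∨ c = (false, true, true, false) then 1
  else 0

theorem tau_five : ∀ c : B4, tau (tau (tau (tau (tau c)))) = c := by decide

theorem fcl_rep : ∀ c : B4, c ≠ z4 → c = rep4 (fcl c) ∨ c = tau (rep4 (fcl c)) ∨ c = tau (tau (rep4 (fcl c))) ∨
    c = tau (tau (tau (rep4 (fcl c)))) ∨ c = tau (tau (tau (tau (rep4 (fcl c))))) := by decide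

theorem gcl_sig : ∀ b c : B4, b ≠ z4 → c ≠ z4 → gcl b = gcl c → ∃ i : Fin 5, c = sig^[i] b := by decide

theorem card_fiber : ∀ b : B4, b ≠ z4 → ∀ j : Fin 3,
    (Finset.univ.filter fun c : B4 => (bpair c b = true) ∧ fcl c = j).card = if j = gcl b then 4 else 2 := by
  decide

theorem card_fiber' : ∀ j : Fin 3, (Finset.univ.filter fun c : B4 => c ≠ z4 ∧ fcl c = j).card = 5 := by
  decide

/-- the multiplicities -/
theorem comb (m : B4 → ℕ) (hm : ∀ c, m c ≤ m (tau c)) :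
    ∃ a : Fin 3 → ℕ, (∑ c, m c = m z4 + 5 * (a 0 + a 1 + a 2)) ∧ (∀ c, c ≠ z4 → m c = a (fcl c)) ∧
      ∀ b, b ≠ z4 → (∑ c, if bpair c b = true then m c else 0) = 2 * ((a 0 + a 1 + a 2) + a (gcl b)) := by
  have h1 : ∀ c, m (tau c) = m c := by
    intro c
    refine le_antisymm ?_ (hm c)
    calc m (tau c) ≤ m (tau (tau c)) := hm _
      _ ≤ m (tau (tau (tau c))) := hm _
      _ ≤ m (tau (tau (tau (tau c)))) := hm _
      _ ≤ m (tau (tau (tau (tau (tau c))))) := hm _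
      _ = m c := by rw [tau_five]
  have h2 : ∀ c, c ≠ z4 → m c = m (rep4 (fcl c)) := by
    intro c hc
    rcases fcl_rep c hc with h | h | h | h | h
    · exact congrArg m h
    · exact (congrArg m h).trans (h1 _)
    · exact (congrArg m h).trans (by rw [h1, h1])
    · exact (congrArg m h).trans (by rw [h1, h1, h1])
    · exact (congrArg m h).trans (by rw [h1, h1, h1, h1])
  refine ⟨fun j => m (rep4 j), ?_, h2, ?_⟩
  · have h3 : ∑ c, m c = m z4 + ∑ c ∈ Finset.univ.filter (fun c : B4 => c ≠ z4), m c := by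
      rw [← Finset.sum_erase_add Finset.univ m (Finset.mem_univ z4), add_comm]
      congr 1
    rw [h3, ← Finset.sum_fiberwise (Finset.univ.filter fun c : B4 => c ≠ z4) fcl m]
    have h4 : ∀ j : Fin 3, ∑ c ∈ (Finset.univ.filter fun c : B4 => c ≠ z4) with fcl c = j, m c = 5 * m (rep4 j) := by
      intro j
      rw [← card_fiber' j, ← smul_eq_mul, ← Finset.sum_const, Finset.filter_filter]
      refine Finset.sum_congr rfl fun c hc => ?_
      rw [Finset.mem_filter] at hc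
      rw [h2 c hc.2.1, hc.2.2]
    simp only [h4, Fin.sum_univ_three]
    ring
  · intro b hb
    rw [← Finset.sum_filter, ← Finset.sum_fiberwise _ fcl m]
    have h4 : ∀ j : Fin 3, ∑ c ∈ (Finset.univ.filter fun c : B4 => bpair c b = true) with fcl c = j, m c =
        (if j = gcl b then 4 else 2) * m (rep4 j) := by
      intro j
      rw [← card_fiber b hb j, ← smul_eq_mul, ← Finset.sum_const, Finset.filter_filter]
      refine Finset.sum_congr rfl fun c hc => ?_
      rw [Finset.mem_filter] at hc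
      rw [h2 c (by rintro rfl; have := hc.2.1; revert this; simp [bpair]), hc.2.2]
    simp only [h4, Fin.sum_univ_three]
    generalize gcl b = j
    fin_cases j <;> simp <;> ring

/-! ## signs and eigenspaces -/

section lin

variable {k : Type*} [Field k] {V : Type*} [AddCommGroup V] [Module k V]

/-- the sign of a bit in a field -/
def sg (k : Type*) [Field k] (b : Bool) : k := if b = true then -1 else 1

theorem sg_mul (b c : Bool) : sg k b * sg k c = sg k (xor b c) := by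
  cases b <;> cases c <;> simp [sg]

/-- the sign of a bit in `ℤˣ` -/
def sgu (b : Bool) : ℤˣ := if b = true then -1 else 1

theorem sgu_mul (b c : Bool) : sgu b * sgu c = sgu (xor b c) := by
  cases b <;> cases c <;> simp [sgu]

theorem sgu_cast (b : Bool) : (((sgu b : ℤˣ) : ℤ) : k) = sg k b := by
  cases b <;> simp [sg, sgu]

theorem exists_sgu (u : ℤˣ) : ∃ b : Bool, u = sgu b := by
  rcases Int.units_eq_one_or u with h | h
  · exact ⟨false, by simp [sgu, h]⟩
  · exact ⟨true, by simp [sgu, h]⟩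

/-- the eigenspaces of an involution -/
def ES (T : Module.End k V) (b : Bool) : Submodule k V := LinearMap.ker (T - algebraMap k _ (sg k b))

theorem mem_ES {T : Module.End k V} {b : Bool} {v : V} : v ∈ ES T b ↔ T v = sg k b • v := by
  rw [ES, LinearMap.mem_ker, LinearMap.sub_apply, Module.algebraMap_end_apply, sub_eq_zero]

theorem ES_stable {T T' : Module.End k V} (hc : T * T' = T' * T) {b : Bool} {U : Submodule k V}
    (hU : ∀ v ∈ U, T v ∈ U) : ∀ v ∈ U ⊓ ES T' b, T v ∈ U ⊓ ES T' b := by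
  rintro v ⟨h1, h2⟩
  refine ⟨hU v h1, mem_ES.2 ?_⟩
  have h3 : T' (T v) = T (T' v) := (LinearMap.congr_fun hc v).symm
  rw [h3, mem_ES.1 h2, map_smul]

theorem split_one [FiniteDimensional k V] (h2 : (2 : k) ≠ 0) {T : Module.End k V} (hT : T * T = 1)
    {U : Submodule k V} (hU : ∀ v ∈ U, T v ∈ U) :
    Module.finrank k U = ∑ b : Bool, Module.finrank k ↥(U ⊓ ES T b) := by
  have hT' : ∀ v, T (T v) = v := fun v => LinearMap.congr_fun hT v
  have h3 : (U ⊓ ES T true) ⊔ (U ⊓ ES T false) = U := by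
    refine le_antisymm (sup_le inf_le_left inf_le_left) fun v hv => ?_
    have h4 : v = (2 : k)⁻¹ • (v - T v) + (2 : k)⁻¹ • (v + T v) := by
      rw [← smul_add, sub_add_add_cancel, ← two_smul k v, smul_smul, inv_mul_cancel₀ h2, one_smul]
    rw [h4]
    refine Submodule.add_mem_sup ⟨U.smul_mem _ (U.sub_mem hv (hU v hv)), mem_ES.2 ?_⟩
      ⟨U.smul_mem _ (U.add_mem hv (hU v hv)), mem_ES.2 ?_⟩
    · rw [map_smul, map_sub, hT']
      simp [sg]
      rw [← smul_neg, neg_sub]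
    · rw [map_smul, map_add, hT']
      simp [sg, add_comm]
  have h4 : (U ⊓ ES T true) ⊓ (U ⊓ ES T false) = ⊥ := by
    rw [Submodule.eq_bot_iff]
    rintro v ⟨⟨-, h5⟩, ⟨-, h6⟩⟩
    have h7 : sg k true • v = sg k false • v := (mem_ES.1 h5).symm.trans (mem_ES.1 h6)
    simp only [sg, Bool.false_eq_true, if_true, if_false, neg_smul, one_smul] at h7
    have h8 : (2 : k) • v = 0 := by
      rw [two_smul]
      nth_rewrite 1 [← h7]
      exact neg_add_cancel v
    exact (smul_eq_zero.1 h8).resolve_left h2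
  have h5 := Submodule.finrank_sup_add_finrank_inf_eq (U ⊓ ES T true) (U ⊓ ES T false)
  rw [h3, h4, finrank_bot, add_zero] at h5
  rw [Fintype.sum_bool, h5]

/-- the common eigenspaces of four commuting involutions -/
def E4 (T0 T1 T2 T3 : Module.End k V) (c : B4) : Submodule k V :=
  ES T0 c.1 ⊓ ES T1 c.2.1 ⊓ ES T2 c.2.2.1 ⊓ ES T3 c.2.2.2

theorem split_four [FiniteDimensional k V] (h2 : (2 : k) ≠ 0) {T0 T1 T2 T3 : Module.End k V}
    (q0 : T0 * T0 = 1) (q1 : T1 * T1 = 1) (q2 : T2 * T2 = 1) (q3 : T3 * T3 = 1)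
    (c10 : T1 * T0 = T0 * T1) (c20 : T2 * T0 = T0 * T2) (c30 : T3 * T0 = T0 * T3)
    (c21 : T2 * T1 = T1 * T2) (c31 : T3 * T1 = T1 * T3) (c32 : T3 * T2 = T2 * T3)
    {U : Submodule k V} (u0 : ∀ v ∈ U, T0 v ∈ U) (u1 : ∀ v ∈ U, T1 v ∈ U) (u2 : ∀ v ∈ U, T2 v ∈ U)
    (u3 : ∀ v ∈ U, T3 v ∈ U) :
    Module.finrank k U = ∑ c : B4, Module.finrank k ↥(U ⊓ E4 T0 T1 T2 T3 c) := by
  have h1 : ∀ c : B4, U ⊓ E4 T0 T1 T2 T3 c = U ⊓ ES T0 c.1 ⊓ ES T1 c.2.1 ⊓ ES T2 c.2.2.1 ⊓ ES T3 c.2.2.2 := by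
    intro c
    simp only [E4, inf_assoc]
  rw [Finset.sum_congr rfl (fun c _ => show Module.finrank k ↥(U ⊓ E4 T0 T1 T2 T3 c) =
    Module.finrank k ↥(U ⊓ ES T0 c.1 ⊓ ES T1 c.2.1 ⊓ ES T2 c.2.2.1 ⊓ ES T3 c.2.2.2) by rw [h1])]
  rw [Fintype.sum_prod_type, split_one h2 q0 u0]
  refine Finset.sum_congr rfl fun b0 _ => ?_
  rw [Fintype.sum_prod_type, split_one h2 q1 (ES_stable c10 u1)]
  refine Finset.sum_congr rfl fun b1 _ => ?_
  rw [Fintype.sum_prod_type, split_one h2 q2 (ES_stable c21 (ES_stable c20 u2))]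
  refine Finset.sum_congr rfl fun b2 _ => ?_
  rw [split_one h2 q3 (ES_stable c32 (ES_stable c31 (ES_stable c30 u3)))]

end lin

/-! ## coordinates of the elementary abelian group -/

section grp

variable {S : Type*} [Group S]

/-- `e ^ b` -/
def pw (b : Bool) (e : S) : S := if b = true then e else 1

theorem pw_mul {e : S} (he : e * e = 1) (b c : Bool) : pw b e * pw c e = pw (xor b c) e := by
  cases b <;> cases c <;> simp [pw, he]

theorem pw_mem {D : Subgroup S} {e : S} (he : e ∈ D) (b : Bool) : pw b e ∈ D := by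
  cases b <;> simp [pw, he, D.one_mem]

/-- the element with given coordinates -/
def el (e0 e1 e2 e3 : S) (b : B4) : S := pw b.1 e0 * pw b.2.1 e1 * pw b.2.2.1 e2 * pw b.2.2.2 e3

theorem el_mem {D : Subgroup S} {e0 e1 e2 e3 : S} (h0 : e0 ∈ D) (h1 : e1 ∈ D) (h2 : e2 ∈ D) (h3 : e3 ∈ D) (b : B4) :
    el e0 e1 e2 e3 b ∈ D :=
  D.mul_mem (D.mul_mem (D.mul_mem (pw_mem h0 _) (pw_mem h1 _)) (pw_mem h2 _)) (pw_mem h3 _)

theorem el_mul {D : Subgroup S} (h : E16 D) {e0 e1 e2 e3 : S} (h0 : e0 ∈ D) (h1 : e1 ∈ D) (h2 : e2 ∈ D) (h3 : e3 ∈ D)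
    (b c : B4) : el e0 e1 e2 e3 b * el e0 e1 e2 e3 c = el e0 e1 e2 e3 (badd b c) := by
  have hc := E16.comm h
  unfold el
  rw [Commute.mul_mul_mul_comm (hc _ (pw_mem h3 _) _ (D.mul_mem (D.mul_mem (pw_mem h0 _) (pw_mem h1 _)) (pw_mem h2 _))),
    Commute.mul_mul_mul_comm (hc _ (pw_mem h2 _) _ (D.mul_mem (pw_mem h0 _) (pw_mem h1 _))),
    Commute.mul_mul_mul_comm (hc _ (pw_mem h1 _) _ (pw_mem h0 _)),
    pw_mul (h.inv _ h0), pw_mul (h.inv _ h1), pw_mul (h.inv _ h2), pw_mul (h.inv _ h3)]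
  rfl

theorem el_zero (e0 e1 e2 e3 : S) : el e0 e1 e2 e3 z4 = 1 := by
  simp [el, pw]

theorem el_one (e0 e1 e2 e3 : S) : el e0 e1 e2 e3 (true, false, false, false) = e0 := by
  simp [el, pw]

theorem el_all (e0 e1 e2 e3 : S) : el e0 e1 e2 e3 (true, true, true, true) = e0 * e1 * e2 * e3 := by
  simp [el, pw]

theorem badd_self (b : B4) : badd b b = z4 := by
  revert b; decide

theorem badd_sig : ∀ b : B4,
    badd (false, b.1, b.2.1, b.2.2.1) (b.2.2.2, b.2.2.2, b.2.2.2, b.2.2.2) = sig b := by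
  decide

theorem coe_el {D : Subgroup S} (e0 e1 e2 e3 : D) (b : B4) :
    ((el e0 e1 e2 e3 b : D) : S) = el (e0 : S) (e1 : S) (e2 : S) (e3 : S) b := by
  have h : ∀ (b : Bool) (e : D), ((pw b e : D) : S) = pw b (e : S) := by
    intro b e
    cases b <;> rfl
  unfold el
  simp only [Subgroup.coe_mul, h]

variable {D : Subgroup S} {y : S}

/-- the conjugates of `d` -/
def ee (y d : S) (i : ℕ) : S := y ^ i * d * (y ^ i)⁻¹

theorem ee_mem (hy : Five D y) {d : S} (hd : d ∈ D) (i : ℕ) : ee y d i ∈ D := conj_mem hy i hd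

theorem ee_zero (y d : S) : ee y d 0 = d := by simp [ee]

theorem ee_four (h : E16 D) (hy : Five D y) {d : S} (hd : d ∈ D) :
    ee y d 4 = ee y d 0 * ee y d 1 * ee y d 2 * ee y d 3 := by
  have h1 := prod_five h hy hd
  have h2 : ee y d 0 * ee y d 1 * ee y d 2 * ee y d 3 * ee y d 4 = 1 := by
    simpa [ee] using h1
  have h3 := h.inv _ (ee_mem hy hd 4)
  calc ee y d 4 = ee y d 0 * ee y d 1 * ee y d 2 * ee y d 3 * ee y d 4 * ee y d 4 := by rw [h2, one_mul]
    _ = ee y d 0 * ee y d 1 * ee y d 2 * ee y d 3 := by rw [mul_assoc, h3, mul_one]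

theorem conj_ee (y d : S) (i : ℕ) : y * ee y d i * y⁻¹ = ee y d (i + 1) := conj_succ y d i

theorem mul_ee (y d : S) (i : ℕ) : y * ee y d i = ee y d (i + 1) * y := by
  rw [← conj_ee, inv_mul_cancel_right]

theorem conj_el (h : E16 D) (hy : Five D y) {d : S} (hd : d ∈ D) (b : B4) :
    y * el (ee y d 0) (ee y d 1) (ee y d 2) (ee y d 3) b * y⁻¹ =
      el (ee y d 0) (ee y d 1) (ee y d 2) (ee y d 3) (sig b) := by
  have h1 : ∀ (c : Bool) (i : ℕ), y * pw c (ee y d i) * y⁻¹ = pw c (ee y d (i + 1)) := by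
    intro c i
    cases c
    · simp [pw]
    · simpa [pw] using conj_ee y d i
  have h2 : y * el (ee y d 0) (ee y d 1) (ee y d 2) (ee y d 3) b * y⁻¹ =
      (y * pw b.1 (ee y d 0) * y⁻¹) * (y * pw b.2.1 (ee y d 1) * y⁻¹) * (y * pw b.2.2.1 (ee y d 2) * y⁻¹) *
        (y * pw b.2.2.2 (ee y d 3) * y⁻¹) := by
    unfold el
    group
  have h3 : pw b.2.2.2 (ee y d 4) = el (ee y d 0) (ee y d 1) (ee y d 2) (ee y d 3) (b.2.2.2, b.2.2.2, b.2.2.2, b.2.2.2) := by
    cases b.2.2.2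
    · simp [pw, el]
    · rw [el_all, ← ee_four h hy hd]
      simp [pw]
  have h4 : pw b.1 (ee y d 1) * pw b.2.1 (ee y d 2) * pw b.2.2.1 (ee y d 3) =
      el (ee y d 0) (ee y d 1) (ee y d 2) (ee y d 3) (false, b.1, b.2.1, b.2.2.1) := by
    simp [el, pw]
  have h5 := badd_sig b
  rw [h2, h1, h1, h1, h1, h3, h4, el_mul h (ee_mem hy hd 0) (ee_mem hy hd 1) (ee_mem hy hd 2) (ee_mem hy hd 3), h5]

theorem conj_el_iter (h : E16 D) (hy : Five D y) {d : S} (hd : d ∈ D) (b : B4) (i : ℕ) :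
    y ^ i * el (ee y d 0) (ee y d 1) (ee y d 2) (ee y d 3) b * (y ^ i)⁻¹ =
      el (ee y d 0) (ee y d 1) (ee y d 2) (ee y d 3) (sig^[i] b) := by
  induction i with
  | zero => simp
  | succ n ih =>
    rw [Function.iterate_succ_apply', ← conj_el h hy hd, ← ih, ← conj_succ]

theorem exists_el [Finite S] (h : E16 D) (hy : Five D y) {d : S} (hd : d ∈ D) (hd1 : d ≠ 1) :
    ∀ e ∈ D, ∃ b : B4, e = el (ee y d 0) (ee y d 1) (ee y d 2) (ee y d 3) b := by
  intro e he
  rw [← (D4 h hy).2.2.2 d hd hd1] at he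
  have hm := el_mul h (ee_mem hy hd 0) (ee_mem hy hd 1) (ee_mem hy hd 2) (ee_mem hy hd 3)
  induction he using Subgroup.closure_induction with
  | mem e he =>
    obtain ⟨i, rfl⟩ := he
    refine ⟨sig^[i] (true, false, false, false), ?_⟩
    rw [← conj_el_iter h hy hd, el_one, ee_zero]
  | one => exact ⟨z4, (el_zero _ _ _ _).symm⟩
  | mul a b _ _ ha hb =>
    obtain ⟨a', rfl⟩ := ha
    obtain ⟨b', rfl⟩ := hb
    exact ⟨_, hm a' b'⟩
  | inv a _ ha =>
    obtain ⟨a', rfl⟩ := ha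
    refine ⟨a', inv_eq_of_mul_eq_one_left ?_⟩
    rw [hm, badd_self, el_zero]

end grp

/-! ## the action on the eigenspaces -/

section rep

variable {S : Type*} [Group S] {D : Subgroup S} {y : S}
variable {k : Type*} [Field k] {V : Type*} [AddCommGroup V] [Module k V] (ρ : S →* Module.End k V)

theorem rho_pw {e : S} {c : Bool} {v : V} (h : ρ e v = sg k c • v) (b : Bool) :
    ρ (pw b e) v = sg k (c && b) • v := by
  cases b
  · simp [pw, sg]
  · simpa [pw] using h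

/-- an element acts on a common eigenspace by the sign `bpair c b` -/
theorem rho_el {e0 e1 e2 e3 : S} {c : B4} {v : V} (h : v ∈ E4 (ρ e0) (ρ e1) (ρ e2) (ρ e3) c) (b : B4) :
    ρ (el e0 e1 e2 e3 b) v = sg k (bpair c b) • v := by
  obtain ⟨⟨⟨h0, h1⟩, h2⟩, h3⟩ := h
  have h0' := rho_pw ρ (mem_ES.1 h0) b.1
  have h1' := rho_pw ρ (mem_ES.1 h1) b.2.1
  have h2' := rho_pw ρ (mem_ES.1 h2) b.2.2.1
  have h3' := rho_pw ρ (mem_ES.1 h3) b.2.2.2
  unfold el
  rw [map_mul, map_mul, map_mul, Module.End.mul_apply, Module.End.mul_apply, Module.End.mul_apply, h3', map_smul,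
    map_smul, map_smul, h2', map_smul, map_smul, h1', map_smul, h0', smul_smul, smul_smul, smul_smul, sg_mul, sg_mul,
    sg_mul, bpair]
  congr 2
  cases (c.1 && b.1) <;> cases (c.2.1 && b.2.1) <;> cases (c.2.2.1 && b.2.2.1) <;> cases (c.2.2.2 && b.2.2.2) <;> rfl

theorem bpair_all : ∀ c : B4, bpair c (true, true, true, true) = (tau c).1 := by decide

/-- `ρ y` permutes the eigenspaces -/
theorem rho_y_mem (h : E16 D) (hy : Five D y) {d : S} (hd : d ∈ D) {c : B4} {v : V}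
    (hv : v ∈ E4 (ρ (ee y d 0)) (ρ (ee y d 1)) (ρ (ee y d 2)) (ρ (ee y d 3)) c) :
    ρ y v ∈ E4 (ρ (ee y d 0)) (ρ (ee y d 1)) (ρ (ee y d 2)) (ρ (ee y d 3)) (tau c) := by
  have h1 : ∀ (i : ℕ) (s : Bool), ρ (ee y d i) v = sg k s • v → ρ (ee y d (i + 1)) (ρ y v) = sg k s • ρ y v := by
    intro i s hs
    rw [← Module.End.mul_apply, ← map_mul, ← mul_ee, map_mul, Module.End.mul_apply, hs, map_smul]
  have h5 : ee y d 5 = ee y d 0 := by
    rw [ee_zero]
    exact conj_five h hy hd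
  have h4 : ρ (ee y d 4) v = sg k (tau c).1 • v := by
    rw [ee_four h hy hd, ← el_all, rho_el ρ hv, bpair_all]
  obtain ⟨⟨⟨q0, q1⟩, q2⟩, q3⟩ := hv
  refine ⟨⟨⟨mem_ES.2 ?_, mem_ES.2 ?_⟩, mem_ES.2 ?_⟩, mem_ES.2 ?_⟩
  · have := h1 4 _ h4
    rw [← h5]
    exact this
  · exact h1 0 _ (mem_ES.1 q0)
  · exact h1 1 _ (mem_ES.1 q1)
  · exact h1 2 _ (mem_ES.1 q2)

end rep

set_option maxHeartbeats 1000000 in
/-- the trace formula -/
theorem TR {S : Type u} [Group S] [Finite S] {D : Subgroup S} (h : E16 D) {y : S} (hy : Five D y)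
    {k : Type*} [Field k] (h2 : (2 : k) ≠ 0) {V : Type*} [AddCommGroup V] [Module k V] [FiniteDimensional k V]
    (ρ : S →* Module.End k V) {d1 d2 d3 : S} (h1 : d1 ∈ D) (h2' : d2 ∈ D) (h3 : d3 ∈ D) (n1 : d1 ≠ 1) (n2 : d2 ≠ 1)
    (n3 : d3 ≠ 1) (h12 : ∀ i : ℕ, d2 ≠ y ^ i * d1 * (y ^ i)⁻¹) (h13 : ∀ i : ℕ, d3 ≠ y ^ i * d1 * (y ^ i)⁻¹)
    (h23 : ∀ i : ℕ, d3 ≠ y ^ i * d2 * (y ^ i)⁻¹) :
    ∃ A a1 a2 a3 : ℕ, Module.finrank k ↥(LinearMap.ker (ρ d1 + 1)) = 2 * (A + a1) ∧
      Module.finrank k ↥(LinearMap.ker (ρ d2 + 1)) = 2 * (A + a2) ∧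
      Module.finrank k ↥(LinearMap.ker (ρ d3 + 1)) = 2 * (A + a3) ∧ A = a1 + a2 + a3 ∧
      Module.finrank k V = Module.finrank k ↥(⨅ d ∈ D, LinearMap.ker (ρ d - 1)) + 5 * A ∧
      (∀ l : D →* ℤˣ, l ≠ 1 → ∃ a ∈ ({a1, a2, a3} : Set ℕ),
        Module.finrank k ↥(⨅ d : D, LinearMap.ker (ρ (d : S) - algebraMap k _ (((l d : ℤ)) : k))) = a) := by
  -- coordinates
  set e0 := ee y d1 0 with he0
  set e1 := ee y d1 1 with he1
  set e2 := ee y d1 2 with he2
  set e3 := ee y d1 3 with he3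
  have m0 : e0 ∈ D := ee_mem hy h1 0
  have m1 : e1 ∈ D := ee_mem hy h1 1
  have m2 : e2 ∈ D := ee_mem hy h1 2
  have m3 : e3 ∈ D := ee_mem hy h1 3
  have hcomm := E16.comm h
  have hsq : ∀ e ∈ D, ρ e * ρ e = 1 := fun e he => by rw [← map_mul, h.inv e he, map_one]
  have hcm : ∀ e ∈ D, ∀ f ∈ D, ρ e * ρ f = ρ f * ρ e := fun e he f hf => by
    rw [← map_mul, hcomm e he f hf, map_mul]
  have hex : ∀ e ∈ D, ∃ b : B4, e = el e0 e1 e2 e3 b := exists_el h hy h1 n1
  have hiter : ∀ (b : B4) (i : ℕ), y ^ i * el e0 e1 e2 e3 b * (y ^ i)⁻¹ = el e0 e1 e2 e3 (sig^[i] b) :=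
    fun b i => conj_el_iter h hy h1 b i
  -- the multiplicities
  let W : B4 → Submodule k V := E4 (ρ e0) (ρ e1) (ρ e2) (ρ e3)
  have hW : ∀ (c : B4) (v : V), v ∈ W c → ∀ b, ρ (el e0 e1 e2 e3 b) v = sg k (bpair c b) • v :=
    fun c v hv b => rho_el ρ hv b
  have hmem : ∀ (c : B4) (v : V), v ∈ W c ↔ (ρ e0 v = sg k c.1 • v ∧ ρ e1 v = sg k c.2.1 • v ∧
      ρ e2 v = sg k c.2.2.1 • v ∧ ρ e3 v = sg k c.2.2.2 • v) := by
    intro c v
    constructor
    · rintro ⟨⟨⟨q0, q1⟩, q2⟩, q3⟩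
      exact ⟨mem_ES.1 q0, mem_ES.1 q1, mem_ES.1 q2, mem_ES.1 q3⟩
    · rintro ⟨q0, q1, q2, q3⟩
      exact ⟨⟨⟨mem_ES.2 q0, mem_ES.2 q1⟩, mem_ES.2 q2⟩, mem_ES.2 q3⟩
  let m : B4 → ℕ := fun c => Module.finrank k ↥(W c)
  have hm : ∀ c, m c ≤ m (tau c) := by
    intro c
    refine LinearMap.finrank_le_finrank_of_injective
      (f := LinearMap.restrict (ρ y) (fun v (hv : v ∈ W c) => rho_y_mem ρ h hy h1 hv)) ?_
    intro v w hvw
    have h4 : ρ y (v : V) = ρ y (w : V) := congrArg Subtype.val hvw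
    have h5 : ρ y⁻¹ (ρ y (v : V)) = ρ y⁻¹ (ρ y (w : V)) := by rw [h4]
    rw [← Module.End.mul_apply, ← Module.End.mul_apply, ← map_mul, inv_mul_cancel, map_one] at h5
    exact Subtype.ext h5
  obtain ⟨a, ha1, ha2, ha3⟩ := comb m hm
  have hsplit : ∀ U : Submodule k V, (∀ e ∈ D, ∀ v ∈ U, ρ e v ∈ U) →
      Module.finrank k U = ∑ c : B4, Module.finrank k ↥(U ⊓ W c) := fun U hU =>
    split_four h2 (hsq _ m0) (hsq _ m1) (hsq _ m2) (hsq _ m3) (hcm _ m1 _ m0) (hcm _ m2 _ m0) (hcm _ m3 _ m0)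
      (hcm _ m2 _ m1) (hcm _ m3 _ m1) (hcm _ m3 _ m2) (hU _ m0) (hU _ m1) (hU _ m2) (hU _ m3)
  -- the whole space
  have htot : Module.finrank k V = m z4 + 5 * (a 0 + a 1 + a 2) := by
    rw [← ha1, ← finrank_top k V, hsplit ⊤ (fun _ _ _ _ => Submodule.mem_top)]
    refine Finset.sum_congr rfl fun c _ => ?_
    rw [top_inf_eq]
  -- the eigenspaces of the elements
  have hker : ∀ b, b ≠ z4 → Module.finrank k ↥(LinearMap.ker (ρ (el e0 e1 e2 e3 b) + 1)) =
      2 * ((a 0 + a 1 + a 2) + a (gcl b)) := by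
    intro b hb
    rw [← ha3 b hb]
    have hbD : el e0 e1 e2 e3 b ∈ D := el_mem m0 m1 m2 m3 b
    have hU : ∀ v, v ∈ LinearMap.ker (ρ (el e0 e1 e2 e3 b) + 1) ↔ ρ (el e0 e1 e2 e3 b) v = -v := by
      intro v
      rw [LinearMap.mem_ker, LinearMap.add_apply, Module.End.one_apply, add_eq_zero_iff_eq_neg]
    rw [hsplit (LinearMap.ker (ρ (el e0 e1 e2 e3 b) + 1))]
    · refine Finset.sum_congr rfl fun c _ => ?_
      by_cases hc : bpair c b = true
      · rw [if_pos hc]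
        have h5 : LinearMap.ker (ρ (el e0 e1 e2 e3 b) + 1) ⊓ W c = W c := by
          refine inf_eq_right.2 fun v hv => (hU v).2 ?_
          rw [hW c v hv b, hc]
          simp [sg]
        rw [h5]
      · rw [if_neg hc]
        have h5 : LinearMap.ker (ρ (el e0 e1 e2 e3 b) + 1) ⊓ W c = ⊥ := by
          rw [Submodule.eq_bot_iff]
          rintro v ⟨hv1, hv2⟩
          have h6 := hW c v hv2 b
          rw [(hU v).1 hv1, Bool.eq_false_iff.2 hc] at h6
          simp only [sg, Bool.false_eq_true, if_false, one_smul] at h6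
          have h7 : (2 : k) • v = 0 := by
            rw [two_smul]
            nth_rewrite 1 [← h6]
            exact neg_add_cancel v
          exact (smul_eq_zero.1 h7).resolve_left h2
        rw [h5, finrank_bot]
    · intro e he v hv
      rw [hU] at hv ⊢
      rw [← Module.End.mul_apply, ← hcm e he _ hbD, Module.End.mul_apply, hv, map_neg]
  -- the fixed space
  have hfix : (⨅ d ∈ D, LinearMap.ker (ρ d - 1)) = W z4 := by
    ext v
    simp only [Submodule.mem_iInf, LinearMap.mem_ker, LinearMap.sub_apply, Module.End.one_apply, sub_eq_zero]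
    constructor
    · intro hv
      rw [hmem]
      simp [sg, hv _ m0, hv _ m1, hv _ m2, hv _ m3]
    · intro hv d hd
      obtain ⟨b, rfl⟩ := hex d hd
      have h5 : ∀ b : B4, bpair z4 b = false := by decide
      rw [hW _ v hv b, h5]
      simp [sg]
  -- classes
  obtain ⟨b2, hb2⟩ := hex d2 h2'
  obtain ⟨b3, hb3⟩ := hex d3 h3
  have hd1 : d1 = el e0 e1 e2 e3 (true, false, false, false) := by
    rw [el_one, he0, ee_zero]
  have z2 : b2 ≠ z4 := by
    rintro rfl
    rw [el_zero] at hb2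
    exact n2 hb2
  have z3 : b3 ≠ z4 := by
    rintro rfl
    rw [el_zero] at hb3
    exact n3 hb3
  have hne : ∀ b c : B4, b ≠ z4 → c ≠ z4 →
      (∀ i : ℕ, el e0 e1 e2 e3 c ≠ y ^ i * el e0 e1 e2 e3 b * (y ^ i)⁻¹) → gcl b ≠ gcl c := by
    intro b c hb hc hi hg
    obtain ⟨i, hi'⟩ := gcl_sig b c hb hc hg
    exact hi i (by rw [hiter, ← hi'])
  have g12 := hne (true, false, false, false) b2 (by decide) z2 (by rw [← hb2, ← hd1]; exact h12)
  have g13 := hne (true, false, false, false) b3 (by decide) z3 (by rw [← hb3, ← hd1]; exact h13)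
  have g23 := hne b2 b3 z2 z3 (by rw [← hb2, ← hb3]; exact h23)
  have hsum : ∀ i j l : Fin 3, i ≠ j → i ≠ l → j ≠ l → a 0 + a 1 + a 2 = a i + a j + a l ∧
      ∀ t : Fin 3, t = i ∨ t = j ∨ t = l := by
    intro i j l
    fin_cases i <;> fin_cases j <;> fin_cases l <;> simp <;> first | (refine ⟨?_, by decide⟩; ring) | decide
  obtain ⟨hs, ht⟩ := hsum _ _ _ g12 g13 g23
  refine ⟨a 0 + a 1 + a 2, a (gcl (true, false, false, false)), a (gcl b2), a (gcl b3), ?_, ?_, ?_, hs, ?_, ?_⟩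
  · rw [hd1]
    exact hker _ (by decide)
  · rw [hb2]
    exact hker _ z2
  · rw [hb3]
    exact hker _ z3
  · rw [hfix]
    exact htot
  · intro l hl
    obtain ⟨c0, q0⟩ := exists_sgu (l ⟨e0, m0⟩)
    obtain ⟨c1, q1⟩ := exists_sgu (l ⟨e1, m1⟩)
    obtain ⟨c2, q2⟩ := exists_sgu (l ⟨e2, m2⟩)
    obtain ⟨c3, q3⟩ := exists_sgu (l ⟨e3, m3⟩)
    have hpw : ∀ (e : D) (c b : Bool), l e = sgu c → l (pw b e) = sgu (c && b) := by
      intro e c b hc
      cases b
      · simp [pw, sgu]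
      · simpa [pw] using hc
    have hl2 : ∀ b : B4, l (el ⟨e0, m0⟩ ⟨e1, m1⟩ ⟨e2, m2⟩ ⟨e3, m3⟩ b) = sgu (bpair (c0, c1, c2, c3) b) := by
      intro b
      unfold el
      rw [map_mul, map_mul, map_mul, hpw _ _ b.1 q0, hpw _ _ b.2.1 q1, hpw _ _ b.2.2.1 q2, hpw _ _ b.2.2.2 q3,
        sgu_mul, sgu_mul, sgu_mul, bpair]
      simp only [Bool.xor_assoc]
    have hl3 : ∀ (d : D) (b : B4), (d : S) = el e0 e1 e2 e3 b → l d = sgu (bpair (c0, c1, c2, c3) b) := by
      intro d b hd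
      rw [← hl2]
      exact congrArg l (Subtype.ext (by rw [coe_el]; exact hd))
    have hcz : (c0, c1, c2, c3) ≠ z4 := by
      intro hc
      apply hl
      ext d
      obtain ⟨b, hb⟩ := hex d d.2
      have h5 : ∀ b : B4, bpair z4 b = false := by decide
      rw [hl3 d b hb, hc, h5]
      simp [sgu]
    have hWl : (⨅ d : D, LinearMap.ker (ρ (d : S) - algebraMap k _ (((l d : ℤ)) : k))) = W (c0, c1, c2, c3) := by
      ext v
      simp only [Submodule.mem_iInf, LinearMap.mem_ker, LinearMap.sub_apply, Module.algebraMap_end_apply, sub_eq_zero]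
      constructor
      · intro hv
        rw [hmem]
        refine ⟨?_, ?_, ?_, ?_⟩
        · rw [hv ⟨e0, m0⟩, q0, sgu_cast]
        · rw [hv ⟨e1, m1⟩, q1, sgu_cast]
        · rw [hv ⟨e2, m2⟩, q2, sgu_cast]
        · rw [hv ⟨e3, m3⟩, q3, sgu_cast]
      · intro hv d
        obtain ⟨b, hb⟩ := hex d d.2
        rw [hl3 d b hb, sgu_cast, hb]
        exact hW _ v hv b
    refine ⟨a (fcl (c0, c1, c2, c3)), ?_, ?_⟩
    · rcases ht (fcl (c0, c1, c2, c3)) with h5 | h5 | h5 <;> rw [h5] <;> simp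
    · rw [hWl]
      exact ha2 _ hcz

end Cfsg.Agent.H215.KS
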